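import Cfsg.Agent.OM.Sp.C4.Gen
import Cfsg.Agent.BZ.C3.Co1
import Cfsg.Agent.BZ.C5.Ru
import Cfsg.Agent.KM.Sp.RowA

/-!
# OM (S4894), the covers `2.Co₁` and `2.Ru` (helper53)
-/

set_option autoImplicit false
set_option linter.unusedSectionVars false
set_option maxRecDepth 100000

namespace Cfsg.Agent.OM.C4

open Cfsg Subgroup Cfsg.Agent.BZ.T Cfsg.Agent.BHZ.Spor Cfsg.Agent.TAB.Eng Cfsg.Agent.TAB.Use
open Cfsg.Agent.Characters.Core Cfsg.Agent.Characters.Brauer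

variable {p : ℕ} [hp : Fact p.Prime] {M : Ideal AlgInt} {X : Type} [Group X] [Finite X] {Γ : Subgroup (MulAut X)}
  {b : Set (IrrCharacter X)} {E : Subgroup X}

section co1

open Cfsg.Agent.TAB.Co1 Cfsg.Agent.BZ.C4

variable {σ : X →* Spor.Co1} {T : TD Spor.Co1 D} {ψ : X → ℂ}

theorem co1_no (H : Hyp p M Γ b E σ) (hc : Nat.card (center X) = 2) (hT : Tb T) (L : Lee T σ ψ)
    (h : RegTriv p (E.map σ)) {d : ℕ} (hR : Reg p d Spor.Co1) (h1 : p ≠ 23)
    (h2 : (24 : ℕ).factorization p + d ≤ (4157776806543360000 : ℕ).factorization p)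
    (h3 : (24 * 296010 : ℕ).factorization p + d ≤ (4157776806543360000 : ℕ).factorization p) : False := by
  obtain ⟨χ, h4, h5⟩ := L.tw hT.mass H.surj ((hT.virt _ (mem_rows 13 rfl)).add ((hT.virt _ (mem_rows 9 rfl)).smul (-1)))
    nrm5 (d := 296010) (by decide +kernel)
  have h6 : charDegree ψ = 24 := by
    have h6 := Blocks.Basic.irr_one_eq_charDegree L.irr
    rw [L.one] at h6
    exact_mod_cast h6.symm
  refine no_two H hc (r1 H S2069.result) (ψ := ⟨ψ, L.irr⟩)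
    (mem_two H hc h (L.faith H.ker (fun _ => 1) fun g => by simp) ((Lo.G.ce H).top_of_crit H.hM hR _ (by rwa [h6, co1_card])))
    (mem_two H hc h (L.faith H.ker (fun t => nth r13 t + (-1) * nth r9 t) h5)
      ((Lo.G.ce H).top_of_crit H.hM hR _ (by rwa [h4, co1_card])))
    (v := fun s => ((nth r13 (T.ty s) + (-1) * nth r9 (T.ty s) : ℤ) : ℂ)) h5 (r := 23) (by norm_num) (by norm_num) h1.symm
    (by rw [co1_card]; norm_num) fun g hg => ?_
  obtain ⟨h7, h8⟩ := (by decide +kernel : ∀ i < D.n, 23 = D.ord i → 1 + nth TAB.Co1.r1 i + nth r2 i ≠ 0 ∧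
    nth r13 i + (-1) * nth r9 i ≠ nth r13 0 + (-1) * nth r9 0) _ (T.lt (σ g)) (hg.symm.trans (T.ord _))
  refine ⟨fun e => h7 (Int.cast_eq_zero.1 ((L.sq g).symm.trans ?_)), fun e => h8 (Int.cast_injective (by rwa [ty_one] at e))⟩
  rw [show ψ g = 0 from e, zero_pow two_ne_zero]

/-- **`2.Co1`, `p = 3`** -/
theorem co1_2_3 : ∀ (S : Type) [Group S] [Finite S], Spor.IsoCo1 S → Cov 2 3 S := by
  rintro S _ _ ⟨e⟩
  have := Fact.mk Nat.prime_three
  have := co1_fin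
  refine Cov.of_equiv e fun X _ _ σ M Γ b E H hc hE => ?_
  obtain ⟨T, hT⟩ := exists_tb
  obtain ⟨ψ, L⟩ := hT.lee H.sit.qs.1.commutator_eq_top H.surj H.ker hc
  exact (co1_no H hc hT L (BZ.C3.co1_rt (bz H (KM.Sp.okCo1_3.noA0 (KM.Sp.Hy.of_rat hT.mass hT.rat hT.tab _
    (by decide +kernel))) hE) hc L) (d := 6) (reg_of_rat hT.mass hT.rat (by decide +kernel)) (by norm_num)
    (by decide +kernel) (by decide +kernel)).elim

/-- **`2.Co1`, `p = 5`** -/
theorem co1_2_5 : ∀ (S : Type) [Group S] [Finite S], Spor.IsoCo1 S → Cov 2 5 S := by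
  rintro S _ _ ⟨e⟩
  have := Fact.mk Nat.prime_five
  refine Cov.of_equiv e fun X _ _ σ M Γ b E H hc hE => ?_
  obtain ⟨T, hT⟩ := exists_tb
  obtain ⟨ψ, L⟩ := hT.lee H.sit.qs.1.commutator_eq_top H.surj H.ker hc
  exact (co1_no H hc hT L ((Lo.G.ce H).rt_of_reg hT.reg5 hE) hT.reg5 (by norm_num) (by decide +kernel)
    (by decide +kernel)).elim

/-- **`2.Co1`, `p = 7`** -/
theorem co1_2_7 : ∀ (S : Type) [Group S] [Finite S], Spor.IsoCo1 S → Cov 2 7 S := by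
  rintro S _ _ ⟨e⟩
  have : Fact (Nat.Prime 7) := ⟨by norm_num⟩
  have := co1_fin
  refine Cov.of_equiv e fun X _ _ σ M Γ b E H hc hE => ?_
  obtain ⟨T, hT⟩ := exists_tb
  obtain ⟨ψ, L⟩ := hT.lee H.sit.qs.1.commutator_eq_top H.surj H.ker hc
  have h1 : Reg 7 2 Spor.Co1 := reg_of_rat hT.mass hT.rat (by decide +kernel)
  exact (co1_no H hc hT L ((Lo.G.ce H).rt_of_reg h1 hE) h1 (by norm_num) (by decide +kernel) (by decide +kernel)).elim

end co1

section ru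

open Cfsg.Agent.TAB Cfsg.Agent.TAB.Ru Cfsg.Agent.BZ.C5.Ru Cfsg.Agent.H447.CTab
open Cfsg.Agent.SporadicB.RuOrder (card_H)
open Cfsg.Agent.H300.Ru (va)

variable {σ : X →* SporadicB.RuOrder.H} {z : X} {ψ : X → ℂ}

theorem irr' (L : Psi σ z ψ) (hs : Function.Surjective σ) (hc : Nat.card (center X) = 2) {c : List (ℤ × ℕ)} {d : ℕ}
    (h : nrm c c = D.N * 1) (hd : 28 * nth (comb rows c) 0 = d) :
    ∃ χ : IrrCharacter X, (∀ y ∈ center X, (χ : X → ℂ) y = (χ : X → ℂ) 1 → y = 1) ∧ charDegree (χ : X → ℂ) = d ∧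
      (χ : X → ℂ) = tw σ ψ c := by
  have := Fintype.ofFinite X
  have h1 := (L.inner hs h).trans Int.cast_one
  have h2 := (L.deg hd).trans (Int.cast_natCast d)
  have h3 := H164.M23.Theta.irr_of_gen (L.gen c) h1 h2
  refine ⟨⟨_, h3⟩, L.faith hc (c := c) fun e => ?_, ?_, rfl⟩
  · have h4 := inner_mu (L.gen c) ⟨_, h3⟩
    rw [e, Int.cast_zero] at h4
    exact one_ne_zero (h1.symm.trans h4)
  · exact_mod_cast (Blocks.Basic.irr_one_eq_charDegree h3).symm.trans h2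

theorem ru_no {σ : X →* Spor.Ru} (H : Hyp p M Γ b E σ) (hc : Nat.card (center X) = 2) (hE : p ^ 3 ∣ Nat.card E)
    (hA : KM.Sp.NoA p 3 Spor.Ru) (hR : Reg p 2 SporadicB.RuOrder.H) (h1 : p ≠ 29)
    (h2 : (28 : ℕ).factorization p + 2 ≤ (145926144000 : ℕ).factorization p)
    (h3 : (34944 : ℕ).factorization p + 2 ≤ (145926144000 : ℕ).factorization p) : False := by
  have H' := H.congr RuLat.Main.equiv
  obtain ⟨z, ψ, L⟩ := exists_psi ((bz H hA hE).congr RuLat.Main.equiv) hc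
  have h4 := (Lo.G.ce H').rt_of_reg (hR.mono (by norm_num)) hE
  obtain ⟨χ₀, a1, a2, a3⟩ := irr' L H'.surj hc (c := [(1, 0)]) (d := 28) (by decide +kernel) (by decide +kernel)
  obtain ⟨χ, b1, b2, b3⟩ := irr' L H'.surj hc (c := [(-1, 3), (1, 5), (-1, 6), (-1, 10), (-1, 13), (-1, 14), (1, 16),
    (1, 19), (-1, 21), (1, 25), (-1, 26)]) (d := 34944) (by decide +kernel) (by decide +kernel)
  have h5 : ∀ g, (χ₀ : X → ℂ) g = ψ g := fun g => by
    rw [a3, tw, Pi.mul_apply, (by decide +kernel : ∀ i < D.n, nth (comb rows [(1, 0)]) i = 1) _ (T.lt _), Int.cast_one, mul_one]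
  refine no_two H' hc (r1 H S2077.result) (mem_two H' hc h4 a1 ((Lo.G.ce H').top_of_crit H.hM hR _ (by rwa [a2, card_H])))
    (mem_two H' hc h4 b1 ((Lo.G.ce H').top_of_crit H.hM hR _ (by rwa [b2, card_H])))
    (v := fun s => (nth (comb rows [(-1, 3), (1, 5), (-1, 6), (-1, 10), (-1, 13), (-1, 14), (1, 16),
      (1, 19), (-1, 21), (1, 25), (-1, 26)]) (T.ty s) : ℂ)) (fun g => by rw [b3, h5]; rfl) (r := 29) (by norm_num)
    (by norm_num) h1.symm (by rw [card_H]; norm_num) fun g hg => ?_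
  obtain ⟨h7, h8⟩ := (by decide +kernel : ∀ i < D.n, 29 = D.ord i → 1 + nth va i ≠ 0 ∧
    nth (comb rows [(-1, 3), (1, 5), (-1, 6), (-1, 10), (-1, 13), (-1, 14), (1, 16), (1, 19), (-1, 21), (1, 25), (-1, 26)]) i ≠
      nth (comb rows [(-1, 3), (1, 5), (-1, 6), (-1, 10), (-1, 13), (-1, 14), (1, 16), (1, 19), (-1, 21), (1, 25), (-1, 26)])
        0) _ (T.lt _) (hg.symm.trans (T.ord _))
  refine ⟨fun e => h7 (Int.cast_eq_zero.1 ((L.sq g).symm.trans ?_)), fun e => h8 (Int.cast_injective (by rwa [ty_one] at e))⟩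
  rw [← h5, e, zero_mul]

/-- **`2.Ru`, `p = 3`** -/
theorem ru_2_3 : ∀ (S : Type) [Group S] [Finite S], Spor.IsoRu S → Cov 2 3 S := by
  rintro S _ _ ⟨e⟩
  have := Fact.mk Nat.prime_three
  have := finH
  have := Finite.of_equiv S e.toEquiv
  have h : Spor.IsoRu Spor.Ru := ⟨MulEquiv.refl _⟩
  exact Cov.of_equiv e fun X _ _ σ M Γ b E H hc hE => (ru_no H hc hE
    (KM.Sp.syl_noA (NotCT.Orders.ru h) (by norm_num) (LV.SpH.ru_3 h) Nat.prime_three)
    (BZ.C2.reg_of_tab mass tabH (d := 1) (by decide +kernel)) (by norm_num) (by decide +kernel) (by decide +kernel)).elim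

/-- **`2.Ru`, `p = 5`** -/
theorem ru_2_5 : ∀ (S : Type) [Group S] [Finite S], Spor.IsoRu S → Cov 2 5 S := by
  rintro S _ _ ⟨e⟩
  have := Fact.mk Nat.prime_five
  have := Finite.of_equiv S e.toEquiv
  exact Cov.of_equiv e fun X _ _ σ M Γ b E H hc hE => (ru_no H hc hE (KM.Sp.okRu_5.nt PQ.Spor.tRu Nat.prime_five) reg5
    (by norm_num) (by decide +kernel) (by decide +kernel)).elim

end ru

end Cfsg.Agent.OM.C4
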