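import Cfsg.Agent.OM.Lo.GA
import Cfsg.Agent.OM.Lo.Idx
import Cfsg.Agent.KM.Sp.Loc

/-!
# OM (S4894), sporadic covers: blocks of maximal defect of double covers (helper53)

`r1` (no outer automorphisms), `bz` (non-abelian defect group), `mem_two`, `no_two`.
-/

set_option autoImplicit false
set_option linter.unusedSectionVars false

namespace Cfsg.Agent.OM.C4

open Cfsg Subgroup Cfsg.Agent.BZ.T Cfsg.Agent.BHZ.Spor Cfsg.Agent.Blocks.Local Cfsg.Agent.Blocks.Basic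
open Cfsg.Agent.Characters.Core

variable {p : ℕ} [hp : Fact p.Prime] {M : Ideal AlgInt} {X : Type} [Group X] [Finite X] {Γ : Subgroup (MulAut X)}
  {b : Set (IrrCharacter X)} {D : Subgroup X} {S : Type} [Group S] {σ : X →* S}

/-- without outer automorphisms the block has rank one -/
theorem r1 (H : Hyp p M Γ b D σ) (ho : Nat.card (Out S) = 1) : R1 p b := fun χ hχ ψ hψ x hx => by
  have h1 : Γ ≤ Inn X := relIndex_eq_one.1 (Nat.dvd_one.1 (ho ▸ Lo.boxIdx p M X Γ b D S σ H))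
  have : Finite (MulAut X) := Finite.of_injective (fun α : MulAut X => (α : X → X)) DFunLike.coe_injective
  have := Fintype.ofFinite Γ
  have h2 : ∀ θ : IrrCharacter X, ∑ᶠ α : Γ, (θ : X → ℂ) (α.1 x) = Fintype.card Γ * (θ : X → ℂ) x := fun θ => by
    rw [finsum_eq_sum_of_fintype, Finset.sum_congr rfl (g := fun _ => (θ : X → ℂ) x), Finset.sum_const, Finset.card_univ,
      nsmul_eq_mul]
    intro α _
    obtain ⟨g, hg⟩ := h1 α.2
    rw [← hg]
    exact isIrr_isClassFunction θ.2 x g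
  have h3 := H.one χ hχ ψ hψ x hx
  rw [h2, h2, mul_assoc, mul_assoc] at h3
  exact mul_left_cancel₀ (Nat.cast_ne_zero.2 Fintype.card_ne_zero) h3

/-- large defect groups are not abelian -/
theorem bz (H : Hyp p M Γ b D σ) {d : ℕ} (h : KM.Sp.NoA p d S) (hd : p ^ d ∣ Nat.card D) : BZ.Hyp p M b D σ :=
  ⟨H.hM, H.hb, H.hD, fun k => h _ ((KM.Sp.locA_of_block H.hM H.hb H.hD k).quot σ H.surj H.ker.le)
    ((Lo.G.ce H).dvd_map hd), H.sit.qs, H.surj, H.ker, H.sit.ndvd, H.sit.cyc, H.faith⟩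

theorem neg_of_faith (hc : Nat.card (center X) = 2) {χ : IrrCharacter X}
    (hf : ∀ z ∈ center X, (χ : X → ℂ) z = (χ : X → ℂ) 1 → z = 1) {z : X} (hz : z ∈ center X) (h1 : z ≠ 1) :
    (χ : X → ℂ) z / (χ : X → ℂ) 1 = -1 := by
  have h2 := cen_pow χ.2 hz 2
  rw [show z ^ 2 = 1 from congrArg Subtype.val (hc ▸ pow_card_eq_one' (x := (⟨z, hz⟩ : center X))),
    div_self (isIrr_apply_one_ne_zero χ.2), eq_comm, sq_eq_one_iff] at h2
  exact h2.resolve_left fun e => h1 (hf z hz ((div_eq_one_iff_eq (isIrr_apply_one_ne_zero χ.2)).1 e))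

/-- the faithful block of maximal defect -/
theorem mem_two (H : Hyp p M Γ b D σ) (hc : Nat.card (center X) = 2) (h : RegTriv p (D.map σ)) {χ : IrrCharacter X}
    (hf : ∀ z ∈ center X, (χ : X → ℂ) z = (χ : X → ℂ) 1 → z = 1) (hT : Top p M (χ : X → ℂ)) : χ ∈ b := by
  have := isPrime_of_isPModular H.hM
  obtain ⟨φ, h1, h2⟩ := (Lo.G.ce H).max_of_rt H.hM H.hb H.hD h
  refine isPBlock_mem_of_sameBlock H.hb h1 ((Lo.G.ce H).same H.hM ⟨_, H.pg.map σ, h⟩ (top_of_not_dvd H.hM h2) hT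
    fun z hz => ?_)
  by_cases e : z = 1
  · rw [e, div_self (isIrr_apply_one_ne_zero χ.2), div_self (isIrr_apply_one_ne_zero φ.2)]
  · rw [neg_of_faith hc hf (H.ker.le hz) e, neg_of_faith hc (H.faith φ h1) (H.ker.le hz) e]

/-- two members which are not proportional -/
theorem no_two (H : Hyp p M Γ b D σ) (hc : Nat.card (center X) = 2) (h : R1 p b) {ψ χ : IrrCharacter X} (hψ : ψ ∈ b)
    (hχ : χ ∈ b) {v : S → ℂ} (e : ∀ g, (χ : X → ℂ) g = (ψ : X → ℂ) g * v (σ g)) {r : ℕ} (hr : r.Prime) (h2 : r ≠ 2)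
    (h3 : r ≠ p) (h4 : r ∣ Nat.card S) (h5 : ∀ g, orderOf (σ g) = r → (ψ : X → ℂ) g ≠ 0 ∧ v (σ g) ≠ v 1) : False := by
  have := Fact.mk hr
  obtain ⟨x, hx⟩ := exists_prime_orderOf_dvd_card' (G := X) r (h4.trans (Lo.G.ce H).card_dvd)
  have h6 : orderOf (σ x) = r := orderOf_eq_prime (by rw [← map_pow, ← hx, pow_orderOf_eq_one, map_one]) fun k => by
    have h6 := orderOf_dvd_natCard (⟨x, H.ker.le k⟩ : center X)
    rw [← orderOf_coe, hc] at h6
    exact h2 ((Nat.prime_dvd_prime_iff_eq hr Nat.prime_two).1 (hx ▸ h6))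
  have h7 := h χ hχ ψ hψ x fun k => h3 ((Nat.prime_dvd_prime_iff_eq hp.out hr).1 (hx ▸ k)).symm
  rw [e, e, map_one, mul_assoc, mul_comm (v _)] at h7
  exact (h5 x h6).2 (mul_left_cancel₀ (isIrr_apply_one_ne_zero ψ.2) (mul_left_cancel₀ (h5 x h6).1 h7))

end Cfsg.Agent.OM.C4
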